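import Mathlib
import Cfsg.Prelude.Def_KGroupFacts

set_option autoImplicit false

/-! # A stem extension of largest kernel of a perfect group covers every stem extension -/

namespace Cfsg.Agent.Lib.Helper5.UCov

open Cfsg
open scoped commutatorElement

universe u

section
variable {L Γ E : Type u} [Group L] [Group Γ] [Group E] [Finite L] [Finite Γ] [Finite E]
  (σ : Γ →* L) (τ : E →* L)

/-- the fibre product -/
def fib : Subgroup (Γ × E) where
  carrier := {p | σ p.1 = τ p.2}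
  one_mem' := by simp
  mul_mem' := by
    intro a b ha hb
    show σ (a * b).1 = τ (a * b).2
    rw [Prod.fst_mul, Prod.snd_mul, map_mul, map_mul, ha, hb]
  inv_mem' := by
    intro a ha
    show σ (a⁻¹).1 = τ (a⁻¹).2
    rw [Prod.fst_inv, Prod.snd_inv, map_inv, map_inv, ha]

theorem mem_fib (p : Γ × E) : p ∈ fib σ τ ↔ σ p.1 = τ p.2 := Iff.rfl

/-- the commutator subgroup of the fibre product -/
def dfib : Subgroup (Γ × E) := ⁅fib σ τ, fib σ τ⁆

theorem dfib_le : dfib σ τ ≤ fib σ τ := by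
  unfold dfib
  rw [Subgroup.commutator_le]
  intro a ha b hb
  rw [commutatorElement_def]
  exact (fib σ τ).mul_mem ((fib σ τ).mul_mem ((fib σ τ).mul_mem ha hb) ((fib σ τ).inv_mem ha))
    ((fib σ τ).inv_mem hb)

theorem comm_central {G : Type*} [Group G] (d d' z z' : G) (hz : ∀ p, z * p = p * z)
    (hz' : ∀ p, z' * p = p * z') : ⁅d * z, d' * z'⁆ = ⁅d, d'⁆ := by
  rw [commutatorElement_def, commutatorElement_def]
  have h1 : z * (d' * z') * z⁻¹ = d' * z' := by rw [hz, mul_inv_cancel_right]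
  have h2 : z' * d⁻¹ * z'⁻¹ = d⁻¹ := by rw [hz', mul_inv_cancel_right]
  calc d * z * (d' * z') * (d * z)⁻¹ * (d' * z')⁻¹
      = d * (z * (d' * z') * z⁻¹) * d⁻¹ * z'⁻¹ * d'⁻¹ := by group
    _ = d * (d' * z') * d⁻¹ * z'⁻¹ * d'⁻¹ := by rw [h1]
    _ = d * d' * (z' * d⁻¹ * z'⁻¹) * d'⁻¹ := by group
    _ = d * d' * d⁻¹ * d'⁻¹ := by rw [h2]

variable {σ τ}

theorem perfect_of_stem [Group.IsPerfect L] (hσ : IsStemExtension σ) : commutator Γ = ⊤ := by
  rw [eq_top_iff]
  intro γ _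
  have h1 : σ γ ∈ commutator L := by
    rw [Group.IsPerfect.commutator_eq_top]; trivial
  have h2 : commutator L = (commutator Γ).map σ := by
    rw [commutator_def, commutator_def, Subgroup.map_commutator,
      ← MonoidHom.range_eq_map, MonoidHom.range_eq_top.2 hσ.1]
  rw [h2] at h1
  obtain ⟨γ', hγ', h3⟩ := h1
  have h4 : γ'⁻¹ * γ ∈ σ.ker := by
    rw [MonoidHom.mem_ker, map_mul, map_inv, h3, inv_mul_cancel]
  have h5 : γ'⁻¹ * γ ∈ commutator Γ := hσ.2.2 h4
  have : γ = γ' * (γ'⁻¹ * γ) := by group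
  rw [this]
  exact (commutator Γ).mul_mem hγ' h5

theorem map_fst_fib (hτ : Function.Surjective τ) :
    (fib σ τ).map (MonoidHom.fst Γ E) = ⊤ := by
  rw [eq_top_iff]
  intro γ _
  obtain ⟨e, he⟩ := hτ (σ γ)
  exact ⟨(γ, e), he.symm, rfl⟩

theorem map_snd_fib (hσ : Function.Surjective σ) :
    (fib σ τ).map (MonoidHom.snd Γ E) = ⊤ := by
  rw [eq_top_iff]
  intro e _
  obtain ⟨γ, hγ⟩ := hσ (τ e)
  exact ⟨(γ, e), hγ, rfl⟩

theorem map_fst_dfib [Group.IsPerfect L] (hσ : IsStemExtension σ) (hτ : IsStemExtension τ) :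
    (dfib σ τ).map (MonoidHom.fst Γ E) = ⊤ := by
  unfold dfib
  rw [Subgroup.map_commutator, map_fst_fib hτ.1, ← commutator_def, perfect_of_stem hσ]

theorem map_snd_dfib [Group.IsPerfect L] (hσ : IsStemExtension σ) (hτ : IsStemExtension τ) :
    (dfib σ τ).map (MonoidHom.snd Γ E) = ⊤ := by
  unfold dfib
  rw [Subgroup.map_commutator, map_snd_fib hσ.1, ← commutator_def, perfect_of_stem hτ]

/-- elements of the fibre product over the identity are central -/
theorem central_of_ker (hσ : IsStemExtension σ) (hτ : IsStemExtension τ) (z : Γ × E)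
    (h1 : z.1 ∈ σ.ker) (h2 : z.2 ∈ τ.ker) (p : Γ × E) : z * p = p * z := by
  apply Prod.ext
  · show z.1 * p.1 = p.1 * z.1
    exact ((Subgroup.mem_center_iff.1 (hσ.2.1 h1)) p.1).symm
  · show z.2 * p.2 = p.2 * z.2
    exact ((Subgroup.mem_center_iff.1 (hτ.2.1 h2)) p.2).symm

/-- every element of the fibre product is a product of an element of its commutator subgroup and
a central element over the identity -/
theorem exists_decomp [Group.IsPerfect L] (hσ : IsStemExtension σ) (hτ : IsStemExtension τ)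
    (p : Γ × E) (hp : p ∈ fib σ τ) :
    ∃ d ∈ dfib σ τ, ∃ z : Γ × E, z.1 ∈ σ.ker ∧ z.2 ∈ τ.ker ∧ p = d * z := by
  have h1 : p.1 ∈ (dfib σ τ).map (MonoidHom.fst Γ E) := by
    rw [map_fst_dfib hσ hτ]; trivial
  obtain ⟨d, hd, hd1⟩ := h1
  have hd1' : d.1 = p.1 := hd1
  refine ⟨d, hd, d⁻¹ * p, ?_, ?_, by group⟩
  · rw [MonoidHom.mem_ker]
    show σ (d⁻¹ * p).1 = 1
    rw [Prod.fst_mul, Prod.fst_inv, hd1', inv_mul_cancel, map_one]
  · rw [MonoidHom.mem_ker]
    show τ (d⁻¹ * p).2 = 1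
    have hdf : σ d.1 = τ d.2 := dfib_le σ τ hd
    have hpf : σ p.1 = τ p.2 := hp
    rw [Prod.snd_mul, Prod.snd_inv, map_mul, map_inv, ← hdf, ← hpf, hd1', inv_mul_cancel]

theorem dfib_perfect [Group.IsPerfect L] (hσ : IsStemExtension σ) (hτ : IsStemExtension τ) :
    dfib σ τ ≤ ⁅dfib σ τ, dfib σ τ⁆ := by
  show ⁅fib σ τ, fib σ τ⁆ ≤ _
  rw [Subgroup.commutator_le]
  intro p hp q hq
  obtain ⟨d, hd, z, hz1, hz2, rfl⟩ := exists_decomp hσ hτ p hp
  obtain ⟨d', hd', z', hz1', hz2', rfl⟩ := exists_decomp hσ hτ q hq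
  have hz := central_of_ker hσ hτ z hz1 hz2
  have hz' := central_of_ker hσ hτ z' hz1' hz2'
  have : ⁅d * z, d' * z'⁆ = ⁅d, d'⁆ := comm_central d d' z z' hz hz'
  rw [this]
  exact Subgroup.commutator_mem_commutator hd hd'

end

section cover
variable {L Γ E : Type u} [Group L] [Group Γ] [Group E] [Finite L] [Finite Γ] [Finite E]
  (σ : Γ →* L) (τ : E →* L)

/-- the map of the derived fibre product to `L` -/
def piHom : dfib σ τ →* L := σ.comp ((MonoidHom.fst Γ E).comp (dfib σ τ).subtype)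

variable {σ τ}

theorem piHom_apply (x : dfib σ τ) : piHom σ τ x = σ x.1.1 := rfl

theorem piHom_isStem [Group.IsPerfect L] (hσ : IsStemExtension σ) (hτ : IsStemExtension τ) :
    IsStemExtension (piHom σ τ) := by
  refine ⟨?_, ?_, ?_⟩
  · intro l
    obtain ⟨γ, rfl⟩ := hσ.1 l
    have h1 : γ ∈ (dfib σ τ).map (MonoidHom.fst Γ E) := by
      rw [map_fst_dfib hσ hτ]; trivial
    obtain ⟨d, hd, hd1⟩ := h1
    refine ⟨⟨d, hd⟩, ?_⟩
    rw [piHom_apply]
    exact congrArg σ hd1
  · intro x hx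
    rw [MonoidHom.mem_ker, piHom_apply] at hx
    have hx2 : τ x.1.2 = 1 := by
      have := dfib_le σ τ x.2
      rw [mem_fib] at this
      rw [← this, hx]
    rw [Subgroup.mem_center_iff]
    intro y
    apply Subtype.ext
    exact (central_of_ker hσ hτ x.1 (MonoidHom.mem_ker.2 hx) (MonoidHom.mem_ker.2 hx2) y.1).symm
  · have hperf : Group.IsPerfect (dfib σ τ) := by
      rw [Subgroup.isPerfect_iff]
      apply le_antisymm
      · rw [Subgroup.commutator_le]
        intro a ha b hb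
        rw [commutatorElement_def]
        exact (dfib σ τ).mul_mem ((dfib σ τ).mul_mem ((dfib σ τ).mul_mem ha hb)
          ((dfib σ τ).inv_mem ha)) ((dfib σ τ).inv_mem hb)
      · exact dfib_perfect hσ hτ
    rw [Group.IsPerfect.commutator_eq_top]
    exact le_top

/-- a stem extension of largest kernel covers every stem extension -/
theorem exists_cover [Group.IsPerfect L] (hσ : IsStemExtension σ) (hτ : IsStemExtension τ)
    (hmax : ∀ (Δ : Type u) [Group Δ] [Finite Δ] (ρ : Δ →* L), IsStemExtension ρ →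
      Nat.card ρ.ker ≤ Nat.card σ.ker) :
    ∃ θ : Γ →* E, Function.Surjective θ ∧ ∀ γ, τ (θ γ) = σ γ := by
  let D := dfib σ τ
  let pr₁ : D →* Γ := (MonoidHom.fst Γ E).comp D.subtype
  let pr₂ : D →* E := (MonoidHom.snd Γ E).comp D.subtype
  have hs1 : Function.Surjective pr₁ := by
    intro γ
    have h1 : γ ∈ (dfib σ τ).map (MonoidHom.fst Γ E) := by
      rw [map_fst_dfib hσ hτ]; trivial
    obtain ⟨d, hd, hd1⟩ := h1
    exact ⟨⟨d, hd⟩, hd1⟩
  have hs2 : Function.Surjective pr₂ := by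
    intro e
    have h1 : e ∈ (dfib σ τ).map (MonoidHom.snd Γ E) := by
      rw [map_snd_dfib hσ hτ]; trivial
    obtain ⟨d, hd, hd1⟩ := h1
    exact ⟨⟨d, hd⟩, hd1⟩
  have hπ := piHom_isStem hσ hτ
  have hk := hmax D (piHom σ τ) hπ
  have hcD : Nat.card D = Nat.card L * Nat.card (piHom σ τ).ker := by
    rw [Subgroup.card_eq_card_quotient_mul_card_subgroup (piHom σ τ).ker]
    congr 1
    exact Nat.card_congr (QuotientGroup.quotientKerEquivOfSurjective _ hπ.1).toEquiv
  have hcΓ : Nat.card Γ = Nat.card L * Nat.card σ.ker := by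
    rw [Subgroup.card_eq_card_quotient_mul_card_subgroup σ.ker]
    congr 1
    exact Nat.card_congr (QuotientGroup.quotientKerEquivOfSurjective _ hσ.1).toEquiv
  have hle : Nat.card D ≤ Nat.card Γ := by
    rw [hcD, hcΓ]
    exact Nat.mul_le_mul_left _ hk
  have hb : Function.Bijective pr₁ := by
    refine ⟨?_, hs1⟩
    have := Nat.card_le_card_of_surjective pr₁ hs1
    have heq : Nat.card D = Nat.card Γ := le_antisymm hle this
    exact ((Nat.bijective_iff_surjective_and_card pr₁).2 ⟨hs1, heq⟩).1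
  let e : D ≃* Γ := MulEquiv.ofBijective pr₁ hb
  refine ⟨pr₂.comp e.symm.toMonoidHom, hs2.comp e.symm.surjective, ?_⟩
  intro γ
  have h1 : σ (e.symm γ).1.1 = τ (e.symm γ).1.2 := dfib_le σ τ (e.symm γ).2
  have h2 : (e.symm γ).1.1 = γ := by
    have := e.apply_symm_apply γ
    exact this
  show τ (e.symm γ).1.2 = σ γ
  rw [← h1, h2]

end cover

end Cfsg.Agent.Lib.Helper5.UCov
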