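import Mathlib
import Cfsg.Agent.Lib.Helper5.UCov.U1

set_option autoImplicit false

/-! # Uniqueness of the cover with elementary abelian centre of order four, multiplier `3 × 4 × 4` -/

namespace Cfsg.Agent.Lib.Helper5.UCov

open Cfsg

universe u

abbrev A344 : Type := Multiplicative (ZMod 3 × ZMod 4 × ZMod 4)

theorem card_A344 : Nat.card A344 = 48 := by
  rw [Nat.card_eq_fintype_card]
  rfl

theorem card_squares_A344 : (Finset.univ.image (fun a : A344 => a * a)).card = 12 := by
  decide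

section
variable {L Γ E : Type u} [Group L] [Group Γ] [Group E] [Finite L] [Finite Γ] [Finite E]
  {σ : Γ →* L} {τ : E →* L}

/-- the kernel of a covering map onto a stem extension with elementary abelian kernel of order
four is the set of squares of the multiplier -/
theorem ker_eq_squares (hσ : IsStemExtension σ) (ψ : σ.ker ≃* A344)
    (hc : Nat.card τ.ker = 4) (he : ∀ x ∈ τ.ker, x * x = 1)
    (θ : Γ →* E) (hθ : Function.Surjective θ) (hcomp : ∀ γ, τ (θ γ) = σ γ) :
    (θ.ker : Set Γ) = {y | ∃ x ∈ σ.ker, y = x * x} := by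
  classical
  have hτs : Function.Surjective τ := by
    intro l
    obtain ⟨γ, rfl⟩ := hσ.1 l
    exact ⟨θ γ, hcomp γ⟩
  symm
  refine Set.eq_of_subset_of_ncard_le ?_ ?_ (Set.toFinite _)
  · rintro y ⟨x, hx, rfl⟩
    show x * x ∈ θ.ker
    rw [MonoidHom.mem_ker, map_mul]
    apply he
    rw [MonoidHom.mem_ker, hcomp]
    exact hx
  · -- cardinalities
    have hcΓ : Nat.card Γ = Nat.card L * 48 := by
      rw [Subgroup.card_eq_card_quotient_mul_card_subgroup σ.ker, Nat.card_congr ψ.toEquiv,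
        card_A344]
      congr 1
      exact Nat.card_congr (QuotientGroup.quotientKerEquivOfSurjective _ hσ.1).toEquiv
    have hcE : Nat.card E = Nat.card L * 4 := by
      rw [Subgroup.card_eq_card_quotient_mul_card_subgroup τ.ker, hc]
      congr 1
      exact Nat.card_congr (QuotientGroup.quotientKerEquivOfSurjective _ hτs).toEquiv
    have hcθ : Nat.card Γ = Nat.card E * Nat.card θ.ker := by
      rw [Subgroup.card_eq_card_quotient_mul_card_subgroup θ.ker]
      congr 1
      exact Nat.card_congr (QuotientGroup.quotientKerEquivOfSurjective _ hθ).toEquiv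
    have hLpos : 0 < Nat.card L := Nat.card_pos
    have h12 : Nat.card θ.ker = 12 := by
      rw [hcΓ, hcE] at hcθ
      have : Nat.card L * 48 = Nat.card L * (4 * Nat.card θ.ker) := by rw [hcθ, mul_assoc]
      have := Nat.eq_of_mul_eq_mul_left hLpos this
      omega
    have h12' : (θ.ker : Set Γ).ncard = 12 := by
      rw [← h12]
      rfl
    rw [h12']
    -- the set of squares has twelve elements
    let f : A344 → Γ := fun a => ((ψ.symm a : σ.ker) : Γ)
    have hf : Function.Injective f := by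
      intro a b hab
      exact ψ.symm.injective (Subtype.ext hab)
    have hT : {y | ∃ x ∈ σ.ker, y = x * x} =
        f '' (↑(Finset.univ.image (fun a : A344 => a * a)) : Set A344) := by
      ext y
      constructor
      · rintro ⟨x, hx, rfl⟩
        refine ⟨ψ ⟨x, hx⟩ * ψ ⟨x, hx⟩, ?_, ?_⟩
        · simp
        · show ((ψ.symm (ψ ⟨x, hx⟩ * ψ ⟨x, hx⟩) : σ.ker) : Γ) = x * x
          rw [map_mul, ψ.symm_apply_apply]
          rfl
      · rintro ⟨a, ha, rfl⟩
        simp only [Finset.coe_image, Finset.coe_univ, Set.image_univ, Set.mem_range] at ha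
        obtain ⟨b, rfl⟩ := ha
        refine ⟨((ψ.symm b : σ.ker) : Γ), (ψ.symm b).2, ?_⟩
        show ((ψ.symm (b * b) : σ.ker) : Γ) = _
        rw [map_mul]
        rfl
    rw [hT, Set.ncard_image_of_injective _ hf, Set.ncard_coe_finset, card_squares_A344]

end

/-- uniqueness -/
theorem unique_cover {L : Type u} [Group L] [Finite L] [Group.IsPerfect L]
    (hM : HasSchurMultiplier L A344)
    {E₁ E₂ : Type u} [Group E₁] [Finite E₁] [Group E₂] [Finite E₂] (τ₁ : E₁ →* L) (τ₂ : E₂ →* L)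
    (h₁ : IsStemExtension τ₁) (h₂ : IsStemExtension τ₂)
    (hc₁ : Nat.card τ₁.ker = 4) (hc₂ : Nat.card τ₂.ker = 4)
    (he₁ : ∀ x ∈ τ₁.ker, x * x = 1) (he₂ : ∀ x ∈ τ₂.ker, x * x = 1) : Nonempty (E₁ ≃* E₂) := by
  obtain ⟨⟨Γ, _, _, σ, hσ, ⟨ψ⟩⟩, hall⟩ := hM
  have hmax : ∀ (Δ : Type u) [Group Δ] [Finite Δ] (ρ : Δ →* L), IsStemExtension ρ →
      Nat.card ρ.ker ≤ Nat.card σ.ker := by
    intro Δ _ _ ρ hρ
    obtain ⟨π, hπ⟩ := hall Δ ρ hρ
    rw [Nat.card_congr ψ.toEquiv]
    exact Nat.card_le_card_of_surjective π hπ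
  obtain ⟨θ₁, hθ₁, hcomp₁⟩ := exists_cover hσ h₁ hmax
  obtain ⟨θ₂, hθ₂, hcomp₂⟩ := exists_cover hσ h₂ hmax
  have hk : θ₁.ker = θ₂.ker := by
    apply SetLike.coe_injective
    rw [ker_eq_squares hσ ψ hc₁ he₁ θ₁ hθ₁ hcomp₁, ker_eq_squares hσ ψ hc₂ he₂ θ₂ hθ₂ hcomp₂]
  exact ⟨(QuotientGroup.quotientKerEquivOfSurjective θ₁ hθ₁).symm.trans
    ((QuotientGroup.quotientMulEquivOfEq hk).trans
      (QuotientGroup.quotientKerEquivOfSurjective θ₂ hθ₂))⟩

end Cfsg.Agent.Lib.Helper5.UCov
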