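import Mathlib
import Cfsg.Agent.Lib.Helper5.UCov.U2

set_option autoImplicit false

/-! # Uniqueness of the perfect central extension by an elementary abelian group of order four -/

namespace Cfsg.Agent.Lib.Helper5.UCov

open Cfsg

/-- a finite group has a copy in the lowest universe -/
theorem exists_small (X : Type*) [Group X] [Finite X] :
    ∃ (X' : Type) (_ : Group X') (_ : Finite X'), Nonempty (X' ≃* X) := by
  let e : Fin (Nat.card X) ≃ X := (Finite.equivFin X).symm
  letI : Group (Fin (Nat.card X)) := e.group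
  exact ⟨Fin (Nat.card X), e.group, inferInstance, ⟨e.mulEquiv⟩⟩

section
variable {L : Type} [Group L] {X L₁ : Type*} [Group X] [Group L₁]

/-- the stem extension attached to a perfect group and an identification of its central quotient -/
def stemHom (ε : X ≃* L₁) (e : L₁ ⧸ Subgroup.center L₁ ≃* L) : X →* L :=
  e.toMonoidHom.comp ((QuotientGroup.mk' (Subgroup.center L₁)).comp ε.toMonoidHom)

theorem mem_ker_stemHom (ε : X ≃* L₁) (e : L₁ ⧸ Subgroup.center L₁ ≃* L) (x : X) :
    x ∈ (stemHom ε e).ker ↔ ε x ∈ Subgroup.center L₁ := by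
  rw [MonoidHom.mem_ker]
  show e ((QuotientGroup.mk' (Subgroup.center L₁)) (ε x)) = 1 ↔ _
  rw [map_eq_one_iff e e.injective]
  exact QuotientGroup.eq_one_iff _

theorem stemHom_isStem (hp : Group.IsPerfect L₁) (ε : X ≃* L₁)
    (e : L₁ ⧸ Subgroup.center L₁ ≃* L) : IsStemExtension (stemHom ε e) := by
  refine ⟨?_, ?_, ?_⟩
  · exact e.surjective.comp ((QuotientGroup.mk'_surjective _).comp ε.surjective)
  · intro x hx
    rw [mem_ker_stemHom] at hx
    rw [Subgroup.mem_center_iff]
    intro y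
    apply ε.injective
    rw [map_mul, map_mul]
    exact (Subgroup.mem_center_iff.1 hx) (ε y)
  · haveI : Group.IsPerfect X := Group.IsPerfect.ofSurjective (f := ε.symm.toMonoidHom) ε.symm.surjective
    rw [Group.IsPerfect.commutator_eq_top]
    exact le_top

theorem card_ker_stemHom (ε : X ≃* L₁) (e : L₁ ⧸ Subgroup.center L₁ ≃* L) :
    Nat.card (stemHom ε e).ker = Nat.card (Subgroup.center L₁) := by
  apply Nat.card_congr
  exact
    { toFun := fun x => ⟨ε x.1, (mem_ker_stemHom ε e x.1).1 x.2⟩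
      invFun := fun z => ⟨ε.symm z.1, by
        rw [mem_ker_stemHom, ε.apply_symm_apply]
        exact z.2⟩
      left_inv := fun x => Subtype.ext (ε.symm_apply_apply x.1)
      right_inv := fun z => Subtype.ext (ε.apply_symm_apply z.1) }

end

theorem iso_of_covers {L : Type} [Group L] (hM : HasSchurMultiplier L A344)
    {L₁ L₂ : Type*} [Group L₁] [Finite L₁] [Group L₂] [Finite L₂]
    (h₁ : Group.IsPerfect L₁) (h₂ : Group.IsPerfect L₂)
    (hc₁ : Nat.card (Subgroup.center L₁) = 4) (hc₂ : Nat.card (Subgroup.center L₂) = 4)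
    (he₁ : ∀ x ∈ Subgroup.center L₁, x * x = 1) (he₂ : ∀ x ∈ Subgroup.center L₂, x * x = 1)
    (e₁ : L₁ ⧸ Subgroup.center L₁ ≃* L) (e₂ : L₂ ⧸ Subgroup.center L₂ ≃* L) :
    Nonempty (L₁ ≃* L₂) := by
  obtain ⟨X₁, _, _, ⟨ε₁⟩⟩ := exists_small L₁
  obtain ⟨X₂, _, _, ⟨ε₂⟩⟩ := exists_small L₂
  haveI : Finite L := Finite.of_equiv _ e₁.toEquiv
  haveI : Group.IsPerfect L :=
    Group.IsPerfect.ofSurjective (f := e₁.toMonoidHom.comp (QuotientGroup.mk' (Subgroup.center L₁)))
      (e₁.surjective.comp (QuotientGroup.mk'_surjective _))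
  have key := unique_cover hM (stemHom ε₁ e₁) (stemHom ε₂ e₂) (stemHom_isStem h₁ ε₁ e₁)
    (stemHom_isStem h₂ ε₂ e₂) (by rw [card_ker_stemHom, hc₁]) (by rw [card_ker_stemHom, hc₂])
    (by
      intro x hx
      rw [mem_ker_stemHom] at hx
      apply ε₁.injective
      rw [map_mul, map_one]
      exact he₁ _ hx)
    (by
      intro x hx
      rw [mem_ker_stemHom] at hx
      apply ε₂.injective
      rw [map_mul, map_one]
      exact he₂ _ hx)
  obtain ⟨κ⟩ := key
  exact ⟨ε₁.symm.trans (κ.trans ε₂)⟩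

end Cfsg.Agent.Lib.Helper5.UCov
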